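import Mathlib

/-! # S3626 (driver helper6): `²G₂(q)³` is unrecognizable by spectrum.  Shared definitions.

Route: `G = R × R × Y` with `R = ²G₂(q)`, `q = 3^(2m+1)`, and `Y` the affine group
`M₂(K) ⋊ (2 × PSL₂(q))` acting on `V = M₂(K)` by `X ↦ e • (g * X * (φ g)ᵀ) + v`, `e = ±1`, `g ∈ SL₂(K)`,
`φ : x ↦ x ^ 3^(m+1)` applied entrywise.  `ω(Y)` = divisors of `9, 6, q - 1, (q + 1)/2` and
`ω(R × R × Y) = ω(R × R × R)`; `Y` has the nontrivial abelian normal subgroup of translations, so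
`S3444` gives groups of unbounded order with the same spectrum.

Namespace `Cfsg.Agent.S3626P`.  Here `φ : K →+* K` is an arbitrary ring endomorphism. -/

set_option autoImplicit false

namespace Cfsg.Agent.S3626P

open Matrix

variable {K : Type*} [Field K]

/-- the linear part `X ↦ e • (g * X * (φ g)ᵀ)` -/
def lin (φ : K →+* K) (e : K) (g : Matrix (Fin 2) (Fin 2) K) (X : Matrix (Fin 2) (Fin 2) K) :
    Matrix (Fin 2) (Fin 2) K :=
  e • (g * X * (g.map φ)ᵀ)

theorem lin_apply (φ : K →+* K) (e : K) (g X : Matrix (Fin 2) (Fin 2) K) :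
    lin φ e g X = e • (g * X * (g.map φ)ᵀ) := rfl

theorem lin_add (φ : K →+* K) (e : K) (g X Y : Matrix (Fin 2) (Fin 2) K) :
    lin φ e g (X + Y) = lin φ e g X + lin φ e g Y := by
  simp only [lin, Matrix.mul_add, Matrix.add_mul, smul_add]

theorem lin_zero (φ : K →+* K) (e : K) (g : Matrix (Fin 2) (Fin 2) K) : lin φ e g 0 = 0 := by
  simp [lin]

theorem lin_neg (φ : K →+* K) (e : K) (g X : Matrix (Fin 2) (Fin 2) K) :
    lin φ e g (-X) = -lin φ e g X := by
  simp [lin]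

theorem lin_sub (φ : K →+* K) (e : K) (g X Y : Matrix (Fin 2) (Fin 2) K) :
    lin φ e g (X - Y) = lin φ e g X - lin φ e g Y := by
  rw [sub_eq_add_neg, lin_add, lin_neg, ← sub_eq_add_neg]

theorem lin_smul (φ : K →+* K) (e c : K) (g X : Matrix (Fin 2) (Fin 2) K) :
    lin φ e g (c • X) = c • lin φ e g X := by
  simp only [lin, Matrix.mul_smul, Matrix.smul_mul, smul_smul, mul_comm]

theorem lin_lin (φ : K →+* K) (e e' : K) (g g' X : Matrix (Fin 2) (Fin 2) K) :
    lin φ e g (lin φ e' g' X) = lin φ (e * e') (g * g') X := by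
  simp only [lin, Matrix.map_mul, Matrix.transpose_mul, Matrix.mul_smul, Matrix.smul_mul, smul_smul,
    Matrix.mul_assoc]

theorem lin_one (φ : K →+* K) (X : Matrix (Fin 2) (Fin 2) K) : lin φ 1 1 X = X := by
  simp [lin, Matrix.map_one]

/-- `-1` in `SL₂` acts trivially -/
theorem lin_neg_one (φ : K →+* K) (X : Matrix (Fin 2) (Fin 2) K) : lin φ 1 (-1) X = X := by
  have h : ((-1 : Matrix (Fin 2) (Fin 2) K).map φ) = -1 := by
    ext i j
    fin_cases i <;> fin_cases j <;> simp [Matrix.map_apply, Matrix.neg_apply, Matrix.one_apply]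
  simp [lin, h]

/-- the affine map `X ↦ e • (g * X * (φ g)ᵀ) + v` -/
def aff (φ : K →+* K) (e : K) (g v : Matrix (Fin 2) (Fin 2) K) (X : Matrix (Fin 2) (Fin 2) K) :
    Matrix (Fin 2) (Fin 2) K :=
  lin φ e g X + v

theorem aff_apply (φ : K →+* K) (e : K) (g v X : Matrix (Fin 2) (Fin 2) K) :
    aff φ e g v X = lin φ e g X + v := rfl

theorem aff_aff (φ : K →+* K) (e e' : K) (g g' v v' X : Matrix (Fin 2) (Fin 2) K) :
    aff φ e g v (aff φ e' g' v' X) = aff φ (e * e') (g * g') (lin φ e g v' + v) X := by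
  simp only [aff, lin_add, lin_lin, add_assoc]

/-- the affine group `Y = M₂(K) ⋊ (2 × PSL₂(K))` as a group of permutations of `M₂(K)` -/
def Y (φ : K →+* K) : Subgroup (Equiv.Perm (Matrix (Fin 2) (Fin 2) K)) where
  carrier := {σ | ∃ (e : K) (g : Matrix.SpecialLinearGroup (Fin 2) K)
    (v : Matrix (Fin 2) (Fin 2) K), (e = 1 ∨ e = -1) ∧
      ∀ X, σ X = aff φ e (g : Matrix (Fin 2) (Fin 2) K) v X}
  mul_mem' := by
    rintro σ τ ⟨e, g, v, he, hσ⟩ ⟨e', g', v', he', hτ⟩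
    refine ⟨e * e', g * g', lin φ e g v' + v, ?_, ?_⟩
    · rcases he with rfl | rfl <;> rcases he' with rfl | rfl <;> simp
    · intro X
      rw [Equiv.Perm.mul_apply, hτ, hσ, aff_aff, Matrix.SpecialLinearGroup.coe_mul]
  one_mem' := ⟨1, 1, 0, Or.inl rfl, fun X => by
    rw [Equiv.Perm.one_apply, aff_apply, Matrix.SpecialLinearGroup.coe_one, lin_one, add_zero]⟩
  inv_mem' := by
    rintro σ ⟨e, g, v, he, hσ⟩
    refine ⟨e, g⁻¹, -lin φ e (g⁻¹ : Matrix.SpecialLinearGroup (Fin 2) K) v, he, ?_⟩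
    intro X
    apply σ.injective
    rw [Equiv.Perm.inv_def, Equiv.apply_symm_apply, hσ, aff_aff, ← Matrix.SpecialLinearGroup.coe_mul,
      mul_inv_cancel, Matrix.SpecialLinearGroup.coe_one, lin_neg, lin_lin,
      ← Matrix.SpecialLinearGroup.coe_mul, mul_inv_cancel, Matrix.SpecialLinearGroup.coe_one]
    have hee : e * e = 1 := by rcases he with rfl | rfl <;> simp
    rw [hee, aff_apply, lin_one, lin_one, neg_add_cancel, add_zero]

theorem mem_Y_iff (φ : K →+* K) (σ : Equiv.Perm (Matrix (Fin 2) (Fin 2) K)) :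
    σ ∈ Y φ ↔ ∃ (e : K) (g : Matrix.SpecialLinearGroup (Fin 2) K)
      (v : Matrix (Fin 2) (Fin 2) K), (e = 1 ∨ e = -1) ∧
        ∀ X, σ X = aff φ e (g : Matrix (Fin 2) (Fin 2) K) v X := Iff.rfl

/-- the iterated sums `S_n v = v + a v + ⋯ + a^(n-1) v`, `a = lin φ e g` -/
def psum (φ : K →+* K) (e : K) (g v : Matrix (Fin 2) (Fin 2) K) : ℕ → Matrix (Fin 2) (Fin 2) K
  | 0 => 0
  | n + 1 => lin φ e g (psum φ e g v n) + v

theorem psum_zero (φ : K →+* K) (e : K) (g v : Matrix (Fin 2) (Fin 2) K) :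
    psum φ e g v 0 = 0 := rfl

theorem psum_succ (φ : K →+* K) (e : K) (g v : Matrix (Fin 2) (Fin 2) K) (n : ℕ) :
    psum φ e g v (n + 1) = lin φ e g (psum φ e g v n) + v := rfl

/-- powers of an affine map -/
theorem pow_apply_of_aff (φ : K →+* K) (σ : Equiv.Perm (Matrix (Fin 2) (Fin 2) K)) (e : K)
    (g v : Matrix (Fin 2) (Fin 2) K) (hσ : ∀ X, σ X = aff φ e g v X) (n : ℕ)
    (X : Matrix (Fin 2) (Fin 2) K) :
    (σ ^ n) X = aff φ (e ^ n) (g ^ n) (psum φ e g v n) X := by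
  induction n generalizing X with
  | zero => simp [aff, lin_one, psum_zero]
  | succ n ih =>
    rw [pow_succ', Equiv.Perm.mul_apply, ih, hσ, aff_aff, psum_succ, pow_succ', pow_succ']

/-- the other recursion for `psum` -/
theorem psum_succ' (φ : K →+* K) (e : K) (g v : Matrix (Fin 2) (Fin 2) K) (n : ℕ) :
    psum φ e g v (n + 1) = psum φ e g v n + lin φ (e ^ n) (g ^ n) v := by
  induction n with
  | zero => simp [psum_succ, psum_zero, lin_zero, lin_one]
  | succ n ih =>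
    calc psum φ e g v (n + 1 + 1) = lin φ e g (psum φ e g v (n + 1)) + v := rfl
      _ = lin φ e g (psum φ e g v n + lin φ (e ^ n) (g ^ n) v) + v := by rw [ih]
      _ = lin φ e g (psum φ e g v n) + lin φ (e ^ (n + 1)) (g ^ (n + 1)) v + v := by
          rw [lin_add, lin_lin, ← pow_succ', ← pow_succ']
      _ = psum φ e g v (n + 1) + lin φ (e ^ (n + 1)) (g ^ (n + 1)) v := by
          rw [psum_succ φ e g v n]; abel

/-- if `lin φ e g` has finite order `n`, the sum `psum n` is a fixed point -/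
theorem lin_psum_of_pow (φ : K →+* K) (e : K) (g v : Matrix (Fin 2) (Fin 2) K) (n : ℕ)
    (hn : ∀ X, lin φ (e ^ n) (g ^ n) X = X) :
    lin φ e g (psum φ e g v n) = psum φ e g v n := by
  have h1 := psum_succ φ e g v n
  rw [psum_succ', hn] at h1
  exact (add_right_cancel h1).symm

/-- the affine map as a permutation -/
def affPerm (φ : K →+* K) (e : K) (he : e = 1 ∨ e = -1)
    (g : Matrix.SpecialLinearGroup (Fin 2) K) (v : Matrix (Fin 2) (Fin 2) K) :
    Equiv.Perm (Matrix (Fin 2) (Fin 2) K) where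
  toFun := aff φ e (g : Matrix (Fin 2) (Fin 2) K) v
  invFun := aff φ e ((g⁻¹ : Matrix.SpecialLinearGroup (Fin 2) K) : Matrix (Fin 2) (Fin 2) K)
    (-lin φ e ((g⁻¹ : Matrix.SpecialLinearGroup (Fin 2) K) : Matrix (Fin 2) (Fin 2) K) v)
  left_inv := by
    intro X
    have hee : e * e = 1 := by rcases he with rfl | rfl <;> simp
    rw [aff_aff, ← Matrix.SpecialLinearGroup.coe_mul, inv_mul_cancel,
      Matrix.SpecialLinearGroup.coe_one, hee, aff_apply, lin_one, add_neg_cancel, add_zero]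
  right_inv := by
    intro X
    have hee : e * e = 1 := by rcases he with rfl | rfl <;> simp
    rw [aff_aff, ← Matrix.SpecialLinearGroup.coe_mul, mul_inv_cancel,
      Matrix.SpecialLinearGroup.coe_one, lin_neg, lin_lin, ← Matrix.SpecialLinearGroup.coe_mul,
      mul_inv_cancel, Matrix.SpecialLinearGroup.coe_one, hee, aff_apply, lin_one, lin_one,
      neg_add_cancel, add_zero]

theorem affPerm_apply (φ : K →+* K) (e : K) (he : e = 1 ∨ e = -1)
    (g : Matrix.SpecialLinearGroup (Fin 2) K) (v X : Matrix (Fin 2) (Fin 2) K) :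
    affPerm φ e he g v X = aff φ e (g : Matrix (Fin 2) (Fin 2) K) v X := rfl

theorem affPerm_mem (φ : K →+* K) (e : K) (he : e = 1 ∨ e = -1)
    (g : Matrix.SpecialLinearGroup (Fin 2) K) (v : Matrix (Fin 2) (Fin 2) K) :
    affPerm φ e he g v ∈ Y φ :=
  ⟨e, g, v, he, fun _ => rfl⟩

/-- the translations, a normal subgroup of `Y φ` -/
def T (φ : K →+* K) : Subgroup ↥(Y φ) where
  carrier := {σ | ∃ v : Matrix (Fin 2) (Fin 2) K, ∀ X, (σ : Equiv.Perm _) X = X + v}
  mul_mem' := by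
    rintro σ τ ⟨v, hσ⟩ ⟨w, hτ⟩
    refine ⟨w + v, fun X => ?_⟩
    rw [Subgroup.coe_mul, Equiv.Perm.mul_apply, hτ, hσ, add_assoc]
  one_mem' := ⟨0, fun X => by simp⟩
  inv_mem' := by
    rintro σ ⟨v, hσ⟩
    refine ⟨-v, fun X => ?_⟩
    apply (σ : Equiv.Perm _).injective
    rw [Subgroup.coe_inv, Equiv.Perm.inv_def, Equiv.apply_symm_apply, hσ, neg_add_cancel_right]

section frob

variable (K)

/-- `x ↦ x ^ 3 ^ (m + 1)` as a ring endomorphism in characteristic `3` -/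
noncomputable def frobS [CharP K 3] (m : ℕ) : K →+* K :=
  haveI : Fact (Nat.Prime 3) := ⟨Nat.prime_three⟩
  iterateFrobenius K 3 (m + 1)

theorem frobS_apply [CharP K 3] (m : ℕ) (x : K) : frobS K m x = x ^ 3 ^ (m + 1) := by
  have : Fact (Nat.Prime 3) := ⟨Nat.prime_three⟩
  exact iterateFrobenius_def 3 (m + 1) x

end frob

/-- the set of element orders of `²G₂(q)`, `q = 3 ^ (2m+1)` (statement of S1159) -/
def Om (m : ℕ) : Set ℕ :=
  {d | d ∣ 6 ∨ d ∣ 9 ∨ d ∣ 3 ^ (2 * m + 1) - 1 ∨ d ∣ (3 ^ (2 * m + 1) + 1) / 2 ∨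
    d ∣ 3 ^ (2 * m + 1) - 3 ^ (m + 1) + 1 ∨ d ∣ 3 ^ (2 * m + 1) + 3 ^ (m + 1) + 1}

/-- the set of element orders of `Y` -/
def OmY (m : ℕ) : Set ℕ :=
  {d | d ∣ 9 ∨ d ∣ 6 ∨ d ∣ 3 ^ (2 * m + 1) - 1 ∨ d ∣ (3 ^ (2 * m + 1) + 1) / 2}

end Cfsg.Agent.S3626P
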