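import Mathlib
import Cfsg.Prelude.Def_LieTwisted
import Cfsg.Agent.Helper6.S3626.Defs
import Cfsg.Agent.Helper24.S3626CHARP
import Cfsg.Agent.Helper23.S3626PROD
import Cfsg.Agent.Helper18.S3626E6
import Cfsg.Agent.Helper18.S3626E9
import Cfsg.Agent.Helper7.S3626EA
import Cfsg.Agent.Helper11.S3626FIX
import Cfsg.Agent.Helper24.S3626KER
import Cfsg.Agent.Helper24.S3626NOFIX
import Cfsg.Agent.Helper18.S3626NORMAL
import Cfsg.Agent.Helper11.S3626SS
import Cfsg.Agent.Helper11.S3626UNI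
import Cfsg.Agent.S1159
import Cfsg.Agent.S3444

/-! S3626 assembly (helper6): `ω(Y)`, and `ω(R × R × Y) = ω(R × R × R)`. -/

set_option autoImplicit false
set_option linter.unusedSectionVars false

namespace Cfsg.Agent.S3626P

open Matrix

namespace ASM

theorem exists_orderOf_of_dvd {G : Type*} [Group G] (x : G) {n d : ℕ} (hx : orderOf x = n)
    (hn : 0 < n) (hd : d ∣ n) : ∃ y : G, orderOf y = d := by
  obtain ⟨k, hk⟩ := hd
  have hk0 : k ≠ 0 := by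
    rintro rfl
    omega
  refine ⟨x ^ k, ?_⟩
  rw [orderOf_pow_of_dvd hk0 (by rw [hx, hk]; exact Dvd.intro_left d rfl), hx, hk]
  exact Nat.mul_div_cancel d (Nat.pos_of_ne_zero hk0)

section finite

variable {K : Type*} [Field K] [Fintype K] {m : ℕ}

/-- UPPER -/
theorem orderOf_mem_OmY [CharP K 3] (hK : Fintype.card K = 3 ^ (2 * m + 1))
    (σ : ↥(Y (frobS K m))) : orderOf σ ∈ OmY m := by
  rw [← Subgroup.orderOf_coe]
  obtain ⟨e, g, v, he, hσ⟩ := σ.2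
  set τ : Equiv.Perm (Matrix (Fin 2) (Fin 2) K) := σ.1 with hτ
  show orderOf τ ∣ 9 ∨ orderOf τ ∣ 6 ∨ orderOf τ ∣ 3 ^ (2 * m + 1) - 1 ∨
    orderOf τ ∣ (3 ^ (2 * m + 1) + 1) / 2
  by_cases h0 : (g : Matrix (Fin 2) (Fin 2) K).trace = 0
  · exact Or.inr (Or.inl (orderOf_dvd_of_pow_eq_one
      (pow_six_of_trace_zero (frobS K m) τ e he g v hσ h0)))
  by_cases h1 : (g : Matrix (Fin 2) (Fin 2) K).trace = 1 ∨
      (g : Matrix (Fin 2) (Fin 2) K).trace = -1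
  · rcases pow_of_trace_pm_one (frobS K m) τ e he g v hσ h1 with h | h
    · exact Or.inl (orderOf_dvd_of_pow_eq_one h)
    · exact Or.inr (Or.inl (orderOf_dvd_of_pow_eq_one h))
  push Not at h1
  have hfix : ∀ X, lin (frobS K m) e (g : Matrix (Fin 2) (Fin 2) K) X = X → X = 0 := by
    intro X hX
    by_contra hX0
    have h2 := trace_eq_of_fixed (frobS K m) e he g X hX0 hX
    rcases trace_cases hK e _ he h2 with h | h | h
    · exact h0 h
    · exact h1.1 h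
    · exact h1.2 h
  rcases pow_of_semisimple hK τ e he g v hσ hfix h1.1 h1.2 with h | h
  · exact Or.inr (Or.inr (Or.inl (orderOf_dvd_of_pow_eq_one h)))
  · exact Or.inr (Or.inr (Or.inr (orderOf_dvd_of_pow_eq_one h)))

/-- SPECY: the spectrum of `Y` -/
theorem range_orderOf_Y [CharP K 3] (hK : Fintype.card K = 3 ^ (2 * m + 1)) :
    Set.range (orderOf : ↥(Y (frobS K m)) → ℕ) = OmY m := by
  ext d
  constructor
  · rintro ⟨σ, rfl⟩
    exact orderOf_mem_OmY hK σ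
  · intro hd
    have hq : 1 < 3 ^ (2 * m + 1) := Nat.one_lt_pow (by omega) (by norm_num)
    rcases hd with h | h | h | h
    · obtain ⟨x, hx⟩ := exists_orderOf_nine (K := K) (m := m) hK
      exact exists_orderOf_of_dvd x hx (by norm_num) h
    · obtain ⟨x, hx⟩ := exists_orderOf_six (K := K) (m := m) hK
      exact exists_orderOf_of_dvd x hx (by norm_num) h
    · obtain ⟨x, hx⟩ := exists_orderOf_qm1 (K := K) (m := m) hK
      exact exists_orderOf_of_dvd x hx (by omega) h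
    · obtain ⟨x, hx⟩ := exists_orderOf_half (K := K) (m := m) hK
      exact exists_orderOf_of_dvd x hx (by omega) h

/-- the spectrum of the Ree group (S1159) -/
theorem range_orderOf_R (hm : 1 ≤ m) (hK : Fintype.card K = 3 ^ (2 * m + 1)) :
    Set.range (orderOf : ↥(Cfsg.Lie.twistedG2 K (3 ^ m)) → ℕ) = Om m := by
  ext d
  exact Cfsg.Agent.S1159.result hm hK d

/-- `ω(R × R × Y) = ω(R × R × R)` -/
theorem range_orderOf_eq [CharP K 3] (hm : 1 ≤ m) (hK : Fintype.card K = 3 ^ (2 * m + 1)) :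
    Set.range (orderOf : ↥(Cfsg.Lie.twistedG2 K (3 ^ m)) × ↥(Cfsg.Lie.twistedG2 K (3 ^ m)) ×
        ↥(Y (frobS K m)) → ℕ) =
      Set.range (orderOf : ↥(Cfsg.Lie.twistedG2 K (3 ^ m)) × ↥(Cfsg.Lie.twistedG2 K (3 ^ m)) ×
        ↥(Cfsg.Lie.twistedG2 K (3 ^ m)) → ℕ) := by
  rw [range_orderOf_prod, range_orderOf_prod, range_orderOf_prod (A := ↥(Cfsg.Lie.twistedG2 K (3 ^ m)))
    (B := ↥(Cfsg.Lie.twistedG2 K (3 ^ m)) × ↥(Cfsg.Lie.twistedG2 K (3 ^ m))),
    range_orderOf_prod (A := ↥(Cfsg.Lie.twistedG2 K (3 ^ m)))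
    (B := ↥(Cfsg.Lie.twistedG2 K (3 ^ m))), range_orderOf_R hm hK, range_orderOf_Y hK]
  exact image2_lcm_Om m

/-- the normal subgroup of translations in `R × R × Y` -/
def K0 (R : Type*) [Group R] (φ : K →+* K) : Subgroup (R × R × ↥(Y φ)) :=
  (⊥ : Subgroup R).prod ((⊥ : Subgroup R).prod (T φ))

theorem K0_normal (R : Type*) [Group R] (φ : K →+* K) : (K0 R φ).Normal := by
  have := T_normal φ
  unfold K0
  infer_instance

theorem K0_ne_bot (R : Type*) [Group R] (φ : K →+* K) : K0 R φ ≠ ⊥ := by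
  intro h
  apply T_ne_bot φ
  rw [eq_bot_iff]
  intro t ht
  have hmem : ((1 : R), (1 : R), t) ∈ K0 R φ := by
    refine ⟨Subgroup.mem_bot.mpr rfl, Subgroup.mem_bot.mpr rfl, ht⟩
  rw [h, Subgroup.mem_bot] at hmem
  rw [Subgroup.mem_bot]
  exact congrArg (fun x => x.2.2) hmem

theorem K0_solvable (R : Type*) [Group R] (φ : K →+* K) : Group.IsSolvable ↥(K0 R φ) := by
  apply isSolvable_of_comm
  rintro ⟨⟨a1, a2, a3⟩, ha⟩ ⟨⟨b1, b2, b3⟩, hb⟩
  apply Subtype.ext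
  obtain ⟨ha1, ha2, ha3⟩ : a1 ∈ (⊥ : Subgroup R) ∧ a2 ∈ (⊥ : Subgroup R) ∧ a3 ∈ T φ := ha
  obtain ⟨hb1, hb2, hb3⟩ : b1 ∈ (⊥ : Subgroup R) ∧ b2 ∈ (⊥ : Subgroup R) ∧ b3 ∈ T φ := hb
  have h1 : a1 = 1 := Subgroup.mem_bot.mp ha1
  have h2 : a2 = 1 := Subgroup.mem_bot.mp ha2
  have h3 : b1 = 1 := Subgroup.mem_bot.mp hb1
  have h4 : b2 = 1 := Subgroup.mem_bot.mp hb2
  have h5 : a3 * b3 = b3 * a3 := congrArg Subtype.val (T_comm φ ⟨a3, ha3⟩ ⟨b3, hb3⟩)
  show (a1 * b1, a2 * b2, a3 * b3) = (b1 * a1, b2 * a2, b3 * a3)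
  rw [h1, h2, h3, h4, h5]

end finite

end ASM

end Cfsg.Agent.S3626P
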